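import Groth.Agent.Lib.LocSymB.Symbol
import Groth.Agent.Lib.VarDim.Normal
import Mathlib.AlgebraicGeometry.AlgClosed.Basic

/-! Values of rational functions at rational points; functions without zeros and poles are constant;
divisors of functions. -/

universe u

open CategoryTheory AlgebraicGeometry WithZero
open scoped Multiplicative

noncomputable section

namespace Groth.Agent.LocSymB

variable {k : Type u} [Field k] {X : Scheme.{u}} {c : X ⟶ Spec (CommRingCat.of k)}

/-- evaluation of the local ring at a rational point -/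
def evalPt (x : LocSym.Pt c) : X.presheaf.stalk x.pt →+* k :=
  (Scheme.stalkClosedPointTo x.1).hom

instance (x : LocSym.Pt c) : IsLocalHom (evalPt x) := Scheme.isLocalHom_stalkClosedPointTo' x.1

theorem germ_stalkClosedPointTo_of_eq_id (f : Spec (CommRingCat.of k) ⟶ Spec (CommRingCat.of k))
    (hf : f = 𝟙 _) :
    (Spec (CommRingCat.of k)).presheaf.germ ⊤ (f (IsLocalRing.closedPoint k)) trivial ≫
      Scheme.stalkClosedPointTo f = (Scheme.ΓSpecIso (CommRingCat.of k)).hom := by
  revert hf
  rw [← Spec.map_id]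
  rintro rfl
  exact (Scheme.germ_stalkClosedPointTo_Spec (R := CommRingCat.of k) (S := CommRingCat.of k) (𝟙 _)).trans
    (Category.comp_id _)

theorem evalPt_germ_const (x : LocSym.Pt c) (a : k) :
    evalPt x (X.presheaf.germ ⊤ x.pt trivial
      (c.appTop.hom ((Scheme.ΓSpecIso (CommRingCat.of k)).inv.hom a))) = a := by
  set t := (Scheme.ΓSpecIso (CommRingCat.of k)).inv.hom a with ht
  have h1 := congr($(germ_stalkClosedPointTo_of_eq_id (x.1 ≫ c) x.2).hom t)
  rw [Scheme.stalkClosedPointTo_comp] at h1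
  refine Eq.trans ?_ (h1.trans ?_)
  · exact congrArg (Scheme.stalkClosedPointTo x.1).hom
      (Scheme.Hom.germ_stalkMap_apply c ⊤ (x.1 (IsLocalRing.closedPoint k)) trivial t).symm
  · exact congr($((Scheme.ΓSpecIso (CommRingCat.of k)).inv_hom_id).hom a)

variable [IsIntegral X] [Smooth c] [IsSeparated c] (hdim : topologicalKrullDim X = 1)

theorem val_constFun (x : LocSym.Pt c) {a : k} (ha : a ≠ 0) : valAt hdim x (LocSym.constFun c a) = 1 := by
  letI := ffAlg c
  exact FunField.val_const (place hdim x) ha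

theorem exists_stalk_eq (x : LocSym.Pt c) {g : X.functionField} (hg : valAt hdim x g ≤ 1) :
    ∃ s : X.presheaf.stalk x.pt, algebraMap _ X.functionField s = g := by
  haveI := isDiscreteValuationRing_stalk hdim x
  exact IsDiscreteValuationRing.exists_lift_of_le_one hg

theorem exists_value (x : LocSym.Pt c) {g : X.functionField} (hg : valAt hdim x g ≤ 1) :
    ∃ a : k, valAt hdim x (g - LocSym.constFun c a) ≤ exp (-(1 : ℤ)) := by
  haveI := isDiscreteValuationRing_stalk hdim x
  obtain ⟨s, rfl⟩ := exists_stalk_eq hdim x hg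
  refine ⟨evalPt x s, ?_⟩
  set t : X.presheaf.stalk x.pt := X.presheaf.germ ⊤ x.pt trivial
    (c.appTop.hom ((Scheme.ΓSpecIso (CommRingCat.of k)).inv.hom (evalPt x s)))
  have ht : algebraMap _ X.functionField t = LocSym.constFun c (evalPt x s) := by
    haveI : Nonempty (⊤ : X.Opens) := ⟨⟨x.pt, trivial⟩⟩
    rw [Scheme.algebraMap_germ_eq_germToFunctionField (X := X) (x := x.pt) (U := ⊤) trivial]
    rfl
  rw [← ht, ← map_sub, ← FunField.lt_one_iff_le]
  refine (IsDedekindDomain.HeightOneSpectrum.valuation_lt_one_iff_mem _ _).mpr ?_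
  refine (IsLocalRing.mem_maximalIdeal _).mpr fun hu => ?_
  have h := (hu.map (evalPt x))
  rw [map_sub, evalPt_germ_const, sub_self] at h
  exact not_isUnit_zero h

theorem hasValueAt_iff (x : LocSym.Pt c) (g : X.functionField) (a : k) :
    LocSym.HasValueAt x g a ↔ valAt hdim x (g - LocSym.constFun c a) ≤ exp (-(1 : ℤ)) := by
  rcases eq_or_ne (g - LocSym.constFun c a) 0 with h | h
  · simp only [LocSym.HasValueAt, h, map_zero]
    exact iff_of_true (Or.inl (sub_eq_zero.mp h)) zero_le
  · rw [LocSym.HasValueAt, val_eq_exp hdim x h, exp_le_exp]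
    refine ⟨?_, fun h' => Or.inr (by omega)⟩
    rintro (rfl | h')
    · exact absurd (sub_self _) h
    · omega

theorem val_eq_one_of_value (x : LocSym.Pt c) {g : X.functionField} {a : k} (ha : a ≠ 0)
    (h : LocSym.HasValueAt x g a) : valAt hdim x g = 1 := by
  rw [hasValueAt_iff hdim] at h
  rw [show g = LocSym.constFun c a + (g - LocSym.constFun c a) by ring,
    Valuation.map_add_eq_of_lt_left _ ?_, val_constFun hdim x ha]
  rw [val_constFun hdim x ha, ← exp_zero]
  exact lt_of_le_of_lt h (exp_lt_exp.mpr (by omega))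

include hdim in
theorem ord_eq_zero_of_value (x : LocSym.Pt c) {g : X.functionField} {a : k} (ha : a ≠ 0)
    (h : LocSym.HasValueAt x g a) : x.ord g = 0 := by
  rw [ord_eq hdim, val_eq_one_of_value hdim x ha h, log_one, neg_zero]

theorem value_unique (x : LocSym.Pt c) {g : X.functionField} {a b : k}
    (ha : valAt hdim x (g - LocSym.constFun c a) ≤ exp (-(1 : ℤ)))
    (hb : valAt hdim x (g - LocSym.constFun c b) ≤ exp (-(1 : ℤ))) : a = b := by
  by_contra hne
  have h := (Valuation.map_sub (valAt hdim x) _ _).trans (max_le ha hb)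
  rw [show g - LocSym.constFun c a - (g - LocSym.constFun c b) = LocSym.constFun c (b - a) by
    rw [map_sub]; ring, val_constFun hdim x (sub_ne_zero.mpr (Ne.symm hne)), ← exp_zero, exp_le_exp] at h
  omega

include hdim in
theorem exists_unit_value (x : LocSym.Pt c) {g : X.functionField} (hg : g ≠ 0) (h : x.ord g = 0) :
    ∃ a : kˣ, LocSym.HasValueAt x g (a : k) := by
  have h1 : valAt hdim x g = 1 := by rw [val_eq_exp hdim x hg, h, neg_zero, exp_zero]
  obtain ⟨a, ha⟩ := exists_value hdim x h1.le
  have ha0 : a ≠ 0 := by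
    rintro rfl
    rw [map_zero, sub_zero, h1, ← exp_zero, exp_le_exp] at ha
    omega
  exact ⟨Units.mk0 a ha0, (hasValueAt_iff hdim x g _).mpr ha⟩

include hdim in
theorem HasValueAt.mul (x : LocSym.Pt c) {g g' : X.functionField} {a b : k}
    (ha : a ≠ 0) (hb : b ≠ 0)
    (h : LocSym.HasValueAt x g a) (h' : LocSym.HasValueAt x g' b) :
    LocSym.HasValueAt x (g * g') (a * b) := by
  have h1 := val_eq_one_of_value hdim x hb h'
  rw [hasValueAt_iff hdim] at h h' ⊢
  rw [show g * g' - LocSym.constFun c (a * b) =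
    (g - LocSym.constFun c a) * g' + LocSym.constFun c a * (g' - LocSym.constFun c b) by
      rw [map_mul]; ring]
  refine (Valuation.map_add _ _ _).trans (max_le ?_ ?_)
  · rw [map_mul, h1, mul_one]; exact h
  · rw [map_mul, val_constFun hdim x ha, one_mul]; exact h'

include hdim in
theorem hasValueAt_constFun (x : LocSym.Pt c) (a : k) :
    LocSym.HasValueAt x (LocSym.constFun c a) a := Or.inl rfl

include hdim in
theorem HasValueAt.inv (x : LocSym.Pt c) {g : X.functionField} {a : k} (ha : a ≠ 0)
    (h : LocSym.HasValueAt x g a) : LocSym.HasValueAt x g⁻¹ a⁻¹ := by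
  have h1 := val_eq_one_of_value hdim x ha h
  have hg : g ≠ 0 := by rintro rfl; simp at h1
  have hc : LocSym.constFun c a ≠ 0 := by
    rw [Ne, map_eq_zero]; exact ha
  rw [hasValueAt_iff hdim] at h ⊢
  rw [show g⁻¹ - LocSym.constFun c a⁻¹ = -((g - LocSym.constFun c a) * (g⁻¹ * (LocSym.constFun c a)⁻¹)) by
    rw [map_inv₀]; field_simp; ring, Valuation.map_neg, map_mul, map_mul, map_inv₀, map_inv₀, h1,
    val_constFun hdim x ha, inv_one, one_mul, mul_one]
  exact h

omit [Smooth c] [IsSeparated c] in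
theorem exists_pt_of_isClosed [IsAlgClosed k] [LocallyOfFiniteType c] {z : X} (hz : IsClosed ({z} : Set X)) :
    ∃ x : LocSym.Pt c, x.pt = z :=
  ⟨⟨pointOfClosedPoint c z hz, pointOfClosedPoint_comp c z hz⟩, pointOfClosedPoint_apply c z hz _⟩

omit [Smooth c] [IsSeparated c] in
theorem exists_pt_specializes [IsAlgClosed k] [LocallyOfFiniteType c] (z : X) :
    ∃ x : LocSym.Pt c, z ⤳ x.pt := by
  haveI : JacobsonSpace X := LocallyOfFiniteType.jacobsonSpace c
  obtain ⟨w, hw, hwc⟩ := nonempty_inter_closedPoints (Z := closure ({z} : Set X))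
    ⟨z, subset_closure rfl⟩ isClosed_closure.isLocallyClosed
  obtain ⟨x, rfl⟩ := exists_pt_of_isClosed (c := c) hwc
  exact ⟨x, specializes_iff_mem_closure.mpr hw⟩

include hdim in
/-- a function without zeros and poles at rational points is constant -/
theorem exists_eq_constFun [IsAlgClosed k] [IsProper c] {g : X.functionField}
    (h : ∀ x : LocSym.Pt c, x.ord g = 0) : ∃ a : k, g = LocSym.constFun c a := by
  rcases eq_or_ne g 0 with rfl | hg
  · exact ⟨0, (map_zero _).symm⟩
  haveI : Nonempty (⊤ : X.Opens) := ⟨⟨genericPoint X, trivial⟩⟩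
  obtain ⟨s, hs⟩ := VarDim.exists_section_of_forall_stalk (⊤ : X.Opens) g fun z _ => by
    obtain ⟨x, hzx⟩ := exists_pt_specializes (c := c) z
    obtain ⟨s, hs⟩ := exists_stalk_eq hdim x
      (g := g) (by rw [val_eq_exp hdim x hg, h x, neg_zero, exp_zero])
    refine ⟨X.presheaf.stalkSpecializes hzx s, ?_⟩
    rw [← hs]
    change ((X.presheaf.stalkSpecializes hzx) ≫ X.presheaf.stalkSpecializes _) s = _
    rw [TopCat.Presheaf.stalkSpecializes_comp]
    rfl
  letI := (isField_of_universallyClosed k c).toField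
  set φ := (Scheme.ΓSpecIso (CommRingCat.of k)).inv ≫ c.appTop
  letI := φ.hom.toAlgebra
  haveI : Algebra.IsIntegral k Γ(X, ⊤) := ⟨fun t => by
    have hi : φ.hom.IsIntegral := RingHom.IsIntegral.trans _ _
      (RingHom.isIntegral_of_surjective _ ((Scheme.ΓSpecIso (CommRingCat.of k)).symm.commRingCatIsoToRingEquiv.surjective))
      (isIntegral_appTop_of_universallyClosed c)
    exact hi t⟩
  obtain ⟨a, ha⟩ := (IsAlgClosed.algebraMap_bijective_of_isIntegral (k := k) (K := Γ(X, ⊤))).2 s
  refine ⟨a, ?_⟩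
  rw [← hs, ← ha]
  rfl

/-- the divisor of a rational function on rational points -/
def divOf [QuasiCompact c] [LocallyOfFiniteType c] (g : X.functionField) : LocSym.Pt c →₀ ℤ :=
  Finsupp.ofSupportFinite (fun x => x.ord g) (finite_ord_support hdim.le g)

@[simp]
theorem divOf_apply [QuasiCompact c] [LocallyOfFiniteType c] (g : X.functionField) (x : LocSym.Pt c) :
    divOf hdim g x = x.ord g := rfl

include hdim in
theorem ord_inv (x : LocSym.Pt c) (g : X.functionField) : x.ord g⁻¹ = -x.ord g := by
  rw [ord_eq hdim, ord_eq hdim, map_inv₀, log_inv]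

include hdim in
theorem ord_constFun (x : LocSym.Pt c) (a : k) : x.ord (LocSym.constFun c a) = 0 := by
  rcases eq_or_ne a 0 with rfl | ha
  · rw [map_zero, ord_eq hdim, map_zero, log_zero, neg_zero]
  · rw [ord_eq hdim, val_constFun hdim x ha, log_one, neg_zero]

end Groth.Agent.LocSymB

end
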