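import Groth.Prelude.Def_W4bk6serrecg25LocSym
import Mathlib.RingTheory.OrderOfVanishing.Noetherian
import Mathlib.AlgebraicGeometry.ResidueField
import Mathlib.AlgebraicGeometry.Morphisms.FiniteType
import Mathlib.AlgebraicGeometry.Morphisms.QuasiCompact
import Mathlib.AlgebraicGeometry.Noetherian

/-! Finiteness of the divisor of a rational function on a curve. -/

universe u v

open CategoryTheory AlgebraicGeometry Order

noncomputable section

namespace Groth.Agent.LocSymB

theorem finite_of_isClosed_ne_univ {T : Type*} [TopologicalSpace T] [T0Space T] [QuasiSober T] [CompactSpace T]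
    [TopologicalSpace.NoetherianSpace T] [IrreducibleSpace T] (hdim : topologicalKrullDim T ≤ 1) {Z : Set T}
    (hZ : IsClosed Z) (hne : Z ≠ Set.univ) : Z.Finite := by
  obtain ⟨S, hSf, hSc, hSi, rfl⟩ := TopologicalSpace.NoetherianSpace.exists_finite_set_isClosed_irreducible hZ
  refine hSf.sUnion fun W hW => ?_
  obtain ⟨z, hz⟩ := QuasiSober.sober (hSi W hW) (hSc W hW)
  obtain ⟨p, hp, hpc⟩ := IsClosed.exists_closed_singleton (hSc W hW) (hSi W hW).nonempty
  by_contra hinf
  have hlt1 : ({p} : Set T) ⊂ W := (Set.singleton_subset_iff.mpr hp).ssubset_of_ne fun h => hinf (h ▸ Set.finite_singleton p)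
  have hlt2 : W ⊂ Set.univ := (Set.subset_univ W).ssubset_of_ne fun h =>
    hne (Set.eq_univ_of_univ_subset (h ▸ Set.subset_sUnion_of_mem hW))
  let a : TopologicalSpace.IrreducibleCloseds T := ⟨{p}, isIrreducible_singleton, hpc⟩
  let b : TopologicalSpace.IrreducibleCloseds T := ⟨W, hSi W hW, hSc W hW⟩
  let c : TopologicalSpace.IrreducibleCloseds T := ⟨Set.univ, IrreducibleSpace.isIrreducible_univ T, isClosed_univ⟩
  have h : ((2 : ℕ) : WithBot ℕ∞) ≤ topologicalKrullDim T := by
    let s : LTSeries (TopologicalSpace.IrreducibleCloseds T) :=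
      ((RelSeries.singleton _ a).snoc b (show a < b from hlt1)).snoc c (by simpa using (show b < c from hlt2))
    exact le_trans (by simp [s]) (Order.LTSeries.length_le_krullDim s)
  exact absurd (h.trans hdim) (by norm_cast)

variable {k : Type u} [Field k] {X : Scheme.{u}} {c : X ⟶ Spec (CommRingCat.of k)}

theorem pt_injective : Function.Injective (LocSym.Pt.pt (c := c)) := by
  intro x y h
  apply Subtype.ext
  set e := Scheme.SpecToEquivOfField k X
  apply e.injective
  have key : ∀ z : LocSym.Pt c, Spec.preimage (X.fromSpecResidueField (e z.1).1 ≫ c) ≫ (e z.1).2 = 𝟙 _ := by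
    intro z
    apply Spec.map_injective
    rw [Spec.map_comp, Spec.map_preimage, Spec.map_id, ← Category.assoc]
    exact (congrArg (· ≫ c) (e.left_inv z.1)).trans z.2
  have h' : (e x.1).1 = (e y.1).1 := h
  have kx := key x; have ky := key y
  revert h' kx ky
  generalize e x.1 = u
  generalize e y.1 = v
  obtain ⟨p, a⟩ := u
  obtain ⟨q, b⟩ := v
  rintro rfl ha hb
  refine Sigma.ext rfl (heq_of_eq (CommRingCat.hom_ext (RingHom.ext fun t => ?_)))
  have e1 : (Spec.preimage (X.fromSpecResidueField p ≫ c)).hom (a.hom t) = t :=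
    a.hom.injective (congrArg (fun f => f.hom (a.hom t)) ha)
  conv_rhs => rw [← e1]
  exact (congrArg (fun f => f.hom (a.hom t)) hb).symm

theorem finite_ord_support [IsIntegral X] [QuasiCompact c] [LocallyOfFiniteType c]
    (hdim : topologicalKrullDim X ≤ 1) (g : X.functionField) :
    {x : LocSym.Pt c | x.ord g ≠ 0}.Finite := by
  haveI : CompactSpace X := QuasiCompact.compactSpace_of_compactSpace c
  haveI : IsLocallyNoetherian X := LocallyOfFiniteType.isLocallyNoetherian c
  haveI : IsNoetherian X := { }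
  rcases eq_or_ne g 0 with rfl | hg
  · refine Set.Finite.subset Set.finite_empty fun x hx => hx ?_
    simp only [LocSym.Pt.ord, CycAlg.ordFrac]
    split <;> simp
  obtain ⟨U, -, f, hne, hfg, hf⟩ := AlgebraicGeometry.exists_isUnit_germ_eq (X := X) g hg
  have hfin : ((U : Set X)ᶜ).Finite := finite_of_isClosed_ne_univ hdim U.isOpen.isClosed_compl fun h => by
    obtain ⟨⟨z, hz⟩⟩ := hne
    exact (h ▸ Set.mem_univ z : z ∈ (U : Set X)ᶜ) hz
  refine (hfin.preimage pt_injective.injOn).subset fun x hx hxU => hx ?_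
  simp only [LocSym.Pt.ord, CycAlg.ordFrac]
  split
  · rename_i h
    haveI := h.1; haveI := h.2.1; haveI := h.2.2.1
    rw [← hfg, ← Scheme.algebraMap_germ_eq_germToFunctionField (X := X) (x := x.pt) hxU,
      Ring.ordFrac_of_isUnit (hf.map _)]
    rfl
  · rfl

end Groth.Agent.LocSymB

end
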