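import Groth.Agent.Lib.LocSymB.Place

/-! Congruences at rational points, multiplicativity of `f((g))`, approximation units. -/

universe u v

open CategoryTheory AlgebraicGeometry WithZero
open scoped Multiplicative

noncomputable section

namespace Groth.Agent.LocSymB

variable {k : Type u} [Field k] {X : Scheme.{u}} {c : X ⟶ Spec (CommRingCat.of k)} [IsIntegral X]
variable [Smooth c] [IsSeparated c] (hdim : topologicalKrullDim X = 1)

/-- `u ≡ 1` of order `n` at `x` -/
def C (n : ℕ) (x : LocSym.Pt c) (u : X.functionField) : Prop := valAt hdim x (1 - u) ≤ exp (-(n : ℤ))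

theorem val_eq_exp (x : LocSym.Pt c) {g : X.functionField} (hg : g ≠ 0) :
    valAt hdim x g = exp (-x.ord g) := by
  rw [ord_eq hdim, neg_neg, exp_log (Valuation.ne_zero_iff _ |>.mpr hg)]

include hdim in
theorem ord_mul (x : LocSym.Pt c) {g h : X.functionField} (hg : g ≠ 0) (hh : h ≠ 0) :
    x.ord (g * h) = x.ord g + x.ord h := by
  rw [ord_eq hdim, ord_eq hdim, ord_eq hdim, map_mul,
    log_mul (Valuation.ne_zero_iff _ |>.mpr hg) (Valuation.ne_zero_iff _ |>.mpr hh), neg_add]

include hdim in
theorem ord_one (x : LocSym.Pt c) : x.ord (1 : X.functionField) = 0 := by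
  rw [ord_eq hdim, map_one, log_one, neg_zero]

theorem C_one (n : ℕ) (x : LocSym.Pt c) : C hdim n x 1 := by simp [C]

theorem C.mono {n n' : ℕ} {x : LocSym.Pt c} {u : X.functionField} (h : C hdim n x u) (hn : n' ≤ n) : C hdim n' x u :=
  le_trans h (exp_le_exp.mpr (by omega))

theorem C.val_eq_one {n : ℕ} {x : LocSym.Pt c} {u : X.functionField} (h : C hdim n x u) (hn : 0 < n) :
    valAt hdim x u = 1 := by
  have h' : valAt hdim x (1 - u) < valAt hdim x 1 := by
    rw [map_one, ← exp_zero]; exact lt_of_le_of_lt h (exp_lt_exp.mpr (by omega))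
  rw [show u = 1 + -(1 - u) by ring, Valuation.map_add_eq_of_lt_left _ (by rwa [Valuation.map_neg]), map_one]

theorem C.ord_eq_zero {n : ℕ} {x : LocSym.Pt c} {u : X.functionField} (h : C hdim n x u) (hn : 0 < n) :
    x.ord u = 0 := by
  rw [ord_eq hdim, h.val_eq_one hdim hn, log_one, neg_zero]

theorem C.mul {n : ℕ} {x : LocSym.Pt c} {u u' : X.functionField} (hn : 0 < n) (h : C hdim n x u) (h' : C hdim n x u') :
    C hdim n x (u * u') := by
  rw [C, show 1 - u * u' = (1 - u) + u * (1 - u') by ring]
  refine (Valuation.map_add _ _ _).trans (max_le h ?_)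
  rw [map_mul, h.val_eq_one hdim hn, _root_.one_mul]; exact h'

theorem C.inv {n : ℕ} {x : LocSym.Pt c} {u : X.functionField} (hn : 0 < n) (h : C hdim n x u) :
    C hdim n x u⁻¹ := by
  have h1 := h.val_eq_one hdim hn
  have hu : u ≠ 0 := by rintro rfl; simp at h1
  rw [C, show 1 - u⁻¹ = -((1 - u) * u⁻¹) by field_simp; ring, Valuation.map_neg, map_mul, map_inv₀, h1, inv_one,
    mul_one]
  exact h

theorem cong1At_iff {m : LocSym.Pt c →₀ ℕ} {x : LocSym.Pt c} {g : X.functionField} :
    LocSym.Cong1At m x g ↔ C hdim (m x) x g := by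
  constructor
  · rintro (rfl | h)
    · exact C_one hdim _ _
    · rcases eq_or_ne (1 - g) 0 with h0 | h0
      · rw [C, h0, map_zero]; exact zero_le
      · rw [C, val_eq_exp hdim x h0, exp_le_exp]; omega
  · intro h
    rcases eq_or_ne g 1 with rfl | hg
    · exact Or.inl rfl
    · rw [C, val_eq_exp hdim x (sub_ne_zero.mpr hg.symm), exp_le_exp] at h
      exact Or.inr (by omega)

/-- unit close to `g` at `x` and close to `1` at the other points of `S` -/
theorem exists_unit (S : Finset (LocSym.Pt c)) (N : LocSym.Pt c → ℕ) (hN : ∀ y ∈ S, 0 < N y) (x : LocSym.Pt c)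
    (hx : x ∈ S) (g : (X.functionField)ˣ) :
    ∃ h : (X.functionField)ˣ, C hdim (N x) x ((h : X.functionField) * (g : X.functionField)⁻¹) ∧
      ∀ y ∈ S, y ≠ x → C hdim (N y) y (h : X.functionField) := by
  classical
  obtain ⟨h, hh⟩ := exists_approx hdim S (fun y => if y = x then (g : X.functionField) else 1)
    (fun y => if y = x then (N y : ℤ) + y.ord (g : X.functionField) else (N y : ℤ))
  have hx' := hh x hx
  simp only [if_pos] at hx'
  have hC : C hdim (N x) x (h * (g : X.functionField)⁻¹) := by
    rw [C, show 1 - h * (g : X.functionField)⁻¹ = -((h - g) * (g : X.functionField)⁻¹) by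
      field_simp [g.ne_zero]; ring, Valuation.map_neg, map_mul, map_inv₀, val_eq_exp hdim x g.ne_zero, ← exp_neg]
    refine (mul_le_mul' hx' le_rfl).trans ?_
    rw [← exp_add, exp_le_exp]; omega
  have hne : h ≠ 0 := by
    rintro rfl
    have := hC.val_eq_one hdim (hN x hx)
    simp at this
  refine ⟨Units.mk0 h hne, hC, fun y hy hyx => ?_⟩
  have := hh y hy
  simp only [if_neg hyx] at this
  rw [C, Units.val_mk0, ← Valuation.map_neg, neg_sub]
  exact this

variable {G : Type v} [CommGroup G]

omit [Smooth c] [IsSeparated c] in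
theorem finite_mulSupport [QuasiCompact c] [LocallyOfFiniteType c] (hdim : topologicalKrullDim X = 1)
    (f : LocSym.Pt c → G) (g : X.functionField) (p : LocSym.Pt c → Prop) [DecidablePred p] :
    (Function.mulSupport fun x : LocSym.Pt c => if p x then (1 : G) else f x ^ x.ord g).Finite :=
  (finite_ord_support (c := c) hdim.le g).subset fun x hx h0 => hx (by simp [h0])

theorem evalDiv_mul [QuasiCompact c] [LocallyOfFiniteType c] (hdim : topologicalKrullDim X = 1) (m : LocSym.Pt c →₀ ℕ) (f : LocSym.Pt c → G) {g h : X.functionField}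
    (hg : g ≠ 0) (hh : h ≠ 0) :
    LocSym.evalDiv m f (g * h) = LocSym.evalDiv m f g * LocSym.evalDiv m f h := by
  classical
  rw [LocSym.evalDiv, LocSym.evalDiv, LocSym.evalDiv,
    ← finprod_mul_distrib (finite_mulSupport hdim f g _) (finite_mulSupport hdim f h _)]
  exact finprod_congr fun x => by split_ifs <;> simp [ord_mul hdim x hg hh, zpow_add]

end Groth.Agent.LocSymB

end
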