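import Groth.Agent.Lib.LocSymB.Values
import Groth.Prelude.Def_W4c1etcurveeff2PicMod
import Mathlib.RingTheory.RootsOfUnity.AlgebraicallyClosed

/-! The sequence `(kˣ)^S → Pic_m → Pic → 0` for a reduced modulus. -/

universe u

open CategoryTheory AlgebraicGeometry WithZero
open scoped Multiplicative

noncomputable section

namespace Groth.Agent.LocSymB

open W4c1etcurveeff2

variable {k : Type u} [Field k] [IsAlgClosed k] {X : Scheme.{u}} [IsIntegral X]
  {c : X ⟶ Spec (CommRingCat.of k)} [IsProper c] [Smooth c] (hdim : topologicalKrullDim X = 1)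

omit [IsAlgClosed k] in
theorem isDivOf_divOf {g : X.functionField} (hg : g ≠ 0) : IsDivOf c (divOf hdim g) g :=
  ⟨hg, fun _ => rfl⟩

omit [IsAlgClosed k] in
include hdim in
theorem IsDivOf.mul {D E : LocSym.Pt c →₀ ℤ} {g h : X.functionField}
    (hD : IsDivOf c D g) (hE : IsDivOf c E h) : IsDivOf c (D + E) (g * h) :=
  ⟨mul_ne_zero hD.1 hE.1, fun x => by
    rw [Finsupp.add_apply, hD.2 x, hE.2 x, ord_mul hdim x hD.1 hE.1]⟩

omit [IsAlgClosed k] in
include hdim in
theorem IsDivOf.inv {D : LocSym.Pt c →₀ ℤ} {g : X.functionField}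
    (hD : IsDivOf c D g) : IsDivOf c (-D) g⁻¹ :=
  ⟨inv_ne_zero hD.1, fun x => by rw [Finsupp.neg_apply, hD.2 x, ord_inv hdim]⟩

omit [IsAlgClosed k] in
include hdim in
theorem isDivOf_zero : IsDivOf c 0 (1 : X.functionField) :=
  ⟨one_ne_zero, fun x => by rw [Finsupp.zero_apply, ord_one hdim]⟩

omit [IsAlgClosed k] in
include hdim in
theorem mem_principal_iff (D : LocSym.Pt c →₀ ℤ) :
    D ∈ principal c ↔ ∃ g : X.functionField, IsDivOf c D g := by
  refine ⟨fun h => ?_, fun h => AddSubgroup.subset_closure h⟩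
  induction h using AddSubgroup.closure_induction with
  | mem x hx => exact hx
  | zero => exact ⟨1, isDivOf_zero hdim⟩
  | add x y _ _ hx hy => exact ⟨_, IsDivOf.mul hdim hx.choose_spec hy.choose_spec⟩
  | neg x _ hx => exact ⟨_, IsDivOf.inv hdim hx.choose_spec⟩

variable {m : LocSym.Pt c →₀ ℕ}

omit [IsAlgClosed k] in
include hdim in
theorem cong1_iff (hm : ∀ x : LocSym.Pt c, m x ≤ 1) (g : X.functionField) :
    LocSym.Cong1 m g ↔ ∀ x ∈ m.support, LocSym.HasValueAt x g ((1 : kˣ) : k) := by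
  refine forall₂_congr fun x hx => ?_
  have h1 : m x = 1 := by
    have := hm x
    have := Finsupp.mem_support_iff.mp hx
    omega
  rw [cong1At_iff hdim, hasValueAt_iff hdim, C, h1, Units.val_one, map_one, Nat.cast_one,
    Valuation.map_sub_swap]

omit [IsAlgClosed k] in
include hdim in
theorem mem_principalMod_iff (hm : ∀ x : LocSym.Pt c, m x ≤ 1) (D : divAway c m) :
    D ∈ principalMod c m ↔
      ∃ g : X.functionField, IsDivOf c (D : LocSym.Pt c →₀ ℤ) g ∧ LocSym.Cong1 m g := by
  refine ⟨fun h => ?_, fun h => AddSubgroup.subset_closure h⟩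
  induction h using AddSubgroup.closure_induction with
  | mem x hx => exact hx
  | zero => exact ⟨1, by simpa using isDivOf_zero hdim, fun x _ => Or.inl rfl⟩
  | add x y _ _ hx hy =>
    obtain ⟨g, hg, hg'⟩ := hx
    obtain ⟨h, hh, hh'⟩ := hy
    rw [cong1_iff hdim hm] at hg' hh'
    refine ⟨g * h, by simpa using IsDivOf.mul hdim hg hh, (cong1_iff hdim hm _).mpr fun z hz => ?_⟩
    simpa using HasValueAt.mul hdim z one_ne_zero one_ne_zero (hg' z hz) (hh' z hz)
  | neg x _ hx =>
    obtain ⟨g, hg, hg'⟩ := hx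
    rw [cong1_iff hdim hm] at hg'
    refine ⟨g⁻¹, by simpa using IsDivOf.inv hdim hg, (cong1_iff hdim hm _).mpr fun z hz => ?_⟩
    simpa using HasValueAt.inv hdim z one_ne_zero (hg' z hz)

omit [IsAlgClosed k] in
include hdim in
theorem picModToPic_surjective : Function.Surjective (picModToPic c m) := by
  intro y
  obtain ⟨E, rfl⟩ := QuotientAddGroup.mk_surjective y
  classical
  have ht : ∀ x : LocSym.Pt c, ∃ t : X.functionField, valAt hdim x t = exp (-(E x)) := fun x => by
    letI := ffAlg c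
    exact (place hdim x).2.2 _
  choose t ht using ht
  obtain ⟨g, hg⟩ := exists_approx hdim m.support t fun x => E x + 1
  have hval : ∀ x ∈ m.support, valAt hdim x g = exp (-(E x)) := fun x hx => by
    rw [← ht x, show g = t x + (g - t x) by ring, Valuation.map_add_eq_of_lt_left]
    rw [ht x]
    exact lt_of_le_of_lt (hg x hx) (exp_lt_exp.mpr (by omega))
  set g' : X.functionField := if g = 0 then 1 else g
  have hg' : g' ≠ 0 := by
    unfold g'
    split_ifs with h
    · exact one_ne_zero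
    · exact h
  refine ⟨QuotientAddGroup.mk ⟨E - divOf hdim g', fun x hx => ?_⟩, ?_⟩
  · have hne : g ≠ 0 := fun h => by
      have := hval x hx
      rw [h, map_zero] at this
      exact exp_ne_zero this.symm
    rw [Finsupp.sub_apply, divOf_apply, show g' = g from if_neg hne, sub_eq_zero, ord_eq hdim,
      hval x hx, log_exp, neg_neg]
  · rw [picModToPic, QuotientAddGroup.map_mk, QuotientAddGroup.eq, mem_principal_iff hdim]
    exact ⟨g', by simpa using isDivOf_divOf hdim hg'⟩

omit [IsAlgClosed k] in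
include hdim in
theorem exists_function_of_values (v : LocSym.Pt c → kˣ) :
    ∃ (g : X.functionField) (D : divAway c m),
      IsDivOf c (D : LocSym.Pt c →₀ ℤ) g ∧ ∀ x ∈ m.support, LocSym.HasValueAt x g (v x : k) := by
  classical
  obtain ⟨g, hg⟩ := exists_approx hdim m.support (fun x => LocSym.constFun c (v x : k)) fun _ => 1
  have hval : ∀ x ∈ m.support, LocSym.HasValueAt x g (v x : k) := fun x hx =>
    (hasValueAt_iff hdim x g _).mpr (hg x hx)
  set g' : X.functionField := if g = 0 then 1 else g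
  have hg' : g' ≠ 0 := by
    unfold g'
    split_ifs with h
    · exact one_ne_zero
    · exact h
  have heq : ∀ x ∈ m.support, g' = g := fun x hx => if_neg fun h => by
    have := val_eq_one_of_value hdim x (v x).ne_zero (hval x hx)
    rw [h, map_zero] at this
    exact zero_ne_one this
  refine ⟨g', ⟨divOf hdim g', fun x hx => ?_⟩, isDivOf_divOf hdim hg', fun x hx => ?_⟩
  · rw [divOf_apply, heq x hx, ord_eq_zero_of_value hdim x (v x).ne_zero (hval x hx)]
  · rw [heq x hx]; exact hval x hx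

/-- the class in `Pic_m` of a family of values -/
def valCls (m : LocSym.Pt c →₀ ℕ) (v : LocSym.Pt c → kˣ) : PicMod c m :=
  QuotientAddGroup.mk (exists_function_of_values hdim (m := m) v).choose_spec.choose

omit [IsAlgClosed k] in
theorem mk_eq_valCls (hm : ∀ x : LocSym.Pt c, m x ≤ 1) {g : X.functionField} {D : divAway c m}
    {v : LocSym.Pt c → kˣ} (hD : IsDivOf c (D : LocSym.Pt c →₀ ℤ) g)
    (hv : ∀ x ∈ m.support, LocSym.HasValueAt x g (v x : k)) :
    (QuotientAddGroup.mk D : PicMod c m) = valCls hdim m v := by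
  obtain ⟨hE, hh⟩ := (exists_function_of_values hdim (m := m) v).choose_spec.choose_spec
  rw [valCls, QuotientAddGroup.eq, mem_principalMod_iff hdim hm]
  refine ⟨_, by simpa using IsDivOf.mul hdim (IsDivOf.inv hdim hD) hE,
    (cong1_iff hdim hm _).mpr fun x hx => ?_⟩
  simpa using HasValueAt.mul hdim x (inv_ne_zero (v x).ne_zero) (v x).ne_zero
    (HasValueAt.inv hdim x (v x).ne_zero (hv x hx)) (hh x hx)

omit [IsAlgClosed k] in
theorem valCls_mul (hm : ∀ x : LocSym.Pt c, m x ≤ 1) (v w : LocSym.Pt c → kˣ) :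
    valCls hdim m (v * w) = valCls hdim m v + valCls hdim m w := by
  obtain ⟨g, D, hD, hv⟩ := exists_function_of_values hdim (m := m) v
  obtain ⟨h, E, hE, hw⟩ := exists_function_of_values hdim (m := m) w
  rw [← mk_eq_valCls hdim hm hD hv, ← mk_eq_valCls hdim hm hE hw, ← QuotientAddGroup.mk_add]
  exact (mk_eq_valCls hdim hm (g := g * h) (by simpa using IsDivOf.mul hdim hD hE) fun x hx => by
    simpa using HasValueAt.mul hdim x (v x).ne_zero (w x).ne_zero (hv x hx) (hw x hx)).symm

/-- values to classes, as a homomorphism -/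
def valHom (hm : ∀ x : LocSym.Pt c, m x ≤ 1) : Additive (LocSym.Pt c → kˣ) →+ PicMod c m :=
  AddMonoidHom.mk' (fun v => valCls hdim m v.toMul) fun v w => valCls_mul hdim hm v.toMul w.toMul

theorem valCls_eq_zero_iff (hm : ∀ x : LocSym.Pt c, m x ≤ 1) (v : LocSym.Pt c → kˣ) :
    valCls hdim m v = 0 ↔ ∃ a : kˣ, ∀ x ∈ m.support, v x = a := by
  obtain ⟨g, D, hD, hv⟩ := exists_function_of_values hdim (m := m) v
  rw [← mk_eq_valCls hdim hm hD hv, QuotientAddGroup.eq_zero_iff, mem_principalMod_iff hdim hm]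
  constructor
  · rintro ⟨g', hg', hc⟩
    rw [cong1_iff hdim hm] at hc
    obtain ⟨a, ha⟩ := exists_eq_constFun hdim (c := c) (g := g * g'⁻¹) fun x => by
      rw [ord_mul hdim x hD.1 (inv_ne_zero hg'.1), ord_inv hdim, ← hD.2 x, ← hg'.2 x, add_neg_cancel]
    have ha0 : a ≠ 0 := by
      rintro rfl
      rw [map_zero] at ha
      exact mul_ne_zero hD.1 (inv_ne_zero hg'.1) ha
    refine ⟨Units.mk0 a ha0, fun x hx => Units.ext ?_⟩
    have h1 : LocSym.HasValueAt x g a := by
      have h2 := HasValueAt.mul hdim x ha0 (by simp) (hasValueAt_constFun hdim x a) (hc x hx)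
      rw [Units.val_one, mul_one, ← ha, inv_mul_cancel_right₀ hg'.1] at h2
      exact h2
    exact value_unique hdim x ((hasValueAt_iff hdim x g _).mp (hv x hx))
      ((hasValueAt_iff hdim x g _).mp h1)
  · rintro ⟨a, ha⟩
    refine ⟨LocSym.constFun c ((a⁻¹ : kˣ) : k) * g, ⟨mul_ne_zero ?_ hD.1, fun x => ?_⟩,
      (cong1_iff hdim hm _).mpr fun x hx => ?_⟩
    · rw [Ne, map_eq_zero]; exact Units.ne_zero _
    · rw [ord_mul hdim x (by rw [Ne, map_eq_zero]; exact Units.ne_zero _) hD.1, ord_constFun hdim,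
        zero_add]
      exact hD.2 x
    · have h1 := HasValueAt.mul hdim x (Units.ne_zero a⁻¹) (v x).ne_zero
        (hasValueAt_constFun hdim x _) (hv x hx)
      rw [← Units.val_mul, ha x hx, inv_mul_cancel] at h1
      exact h1

omit [IsAlgClosed k] in
include hdim in
theorem picModToPic_eq_zero_iff (y : PicMod c m) :
    picModToPic c m y = 0 ↔
      ∃ (g : X.functionField) (D : divAway c m) (v : LocSym.Pt c → kˣ),
        IsDivOf c (D : LocSym.Pt c →₀ ℤ) g ∧ (∀ x ∈ m.support, LocSym.HasValueAt x g (v x : k)) ∧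
        y = (QuotientAddGroup.mk D : PicMod c m) := by
  classical
  obtain ⟨D, rfl⟩ := QuotientAddGroup.mk_surjective y
  constructor
  · intro h
    rw [picModToPic, QuotientAddGroup.map_mk, QuotientAddGroup.eq_zero_iff, mem_principal_iff hdim] at h
    obtain ⟨g, hg⟩ := h
    have hv : ∀ x ∈ m.support, ∃ a : kˣ, LocSym.HasValueAt x g (a : k) := fun x hx =>
      exists_unit_value hdim x hg.1 ((hg.2 x).symm.trans (D.2 x hx))
    refine ⟨g, D, fun x => if hx : x ∈ m.support then (hv x hx).choose else 1, hg, fun x hx => ?_, rfl⟩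
    simp only [dif_pos hx]
    exact (hv x hx).choose_spec
  · rintro ⟨g, E, v, hE, -, h⟩
    rw [h, picModToPic, QuotientAddGroup.map_mk, QuotientAddGroup.eq_zero_iff, mem_principal_iff hdim]
    exact ⟨g, hE⟩

omit [IsAlgClosed k] in
theorem picModToPic_valCls (v : LocSym.Pt c → kˣ) :
    picModToPic c m (valCls hdim m v) = 0 :=
  (picModToPic_eq_zero_iff hdim _).mpr
    ⟨_, _, v, (exists_function_of_values hdim (m := m) v).choose_spec.choose_spec.1,
      (exists_function_of_values hdim (m := m) v).choose_spec.choose_spec.2, rfl⟩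

omit [IsAlgClosed k] in
theorem exists_valCls_of_ker (hm : ∀ x : LocSym.Pt c, m x ≤ 1) {y : PicMod c m}
    (hy : picModToPic c m y = 0) : ∃ v, y = valCls hdim m v := by
  obtain ⟨g, D, v, hD, hv, rfl⟩ := (picModToPic_eq_zero_iff hdim y).mp hy
  exact ⟨v, mk_eq_valCls hdim hm hD hv⟩

attribute [irreducible] valCls

include hdim in
theorem exists_torsion_lift (hm : ∀ x : LocSym.Pt c, m x ≤ 1) (n : ℕ) (hn : 1 ≤ n)
    (y : Pic c) (hy : n • y = 0) : ∃ x : PicMod c m, n • x = 0 ∧ picModToPic c m x = y := by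
  obtain ⟨x, rfl⟩ := picModToPic_surjective hdim (m := m) y
  obtain ⟨v, hv⟩ := exists_valCls_of_ker hdim hm (y := n • x) (by rw [map_nsmul, hy])
  choose w hw using fun z => IsAlgClosed.exists_pow_nat_eq ((v z : kˣ) : k) (by omega : 0 < n)
  have hw0 : ∀ z, w z ≠ 0 := fun z h => (v z).ne_zero (by rw [← hw z, h, zero_pow (by omega)])
  let w' : LocSym.Pt c → kˣ := fun z => Units.mk0 (w z) (hw0 z)
  refine ⟨x - valCls hdim m w', ?_, by rw [map_sub, picModToPic_valCls, sub_zero]⟩
  have h : n • valCls hdim m w' = valCls hdim m (w' ^ n) := (map_nsmul (valHom hdim hm) n (Additive.ofMul w')).symm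
  rw [nsmul_sub, h, hv, show w' ^ n = v from funext fun z => Units.ext (by simp [w', hw z]), sub_self]

omit [IsAlgClosed k] in
theorem div_mem_rootsOfUnity {n : ℕ} {a b e : kˣ} (ha : a ^ n = e) (hb : b ^ n = e) :
    a / b ∈ rootsOfUnity n k := by
  rw [mem_rootsOfUnity, div_pow, ha, hb, div_self']

include hdim in
theorem card_ker_torsion (hm : ∀ x : LocSym.Pt c, m x ≤ 1) (n : ℕ) (hn : 1 ≤ n) (hnk : (n : k) ≠ 0) :
    Nat.card {x : PicMod c m // n • x = 0 ∧ picModToPic c m x = 0} = n ^ (m.support.card - 1) := by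
  classical
  have hpow : ∀ v : LocSym.Pt c → kˣ, n • valCls hdim m v = valCls hdim m (v ^ n) := fun v =>
    (map_nsmul (valHom hdim hm) n (Additive.ofMul v)).symm
  have hdiv : ∀ v w : LocSym.Pt c → kˣ, valCls hdim m (v / w) = valCls hdim m v - valCls hdim m w :=
    fun v w => map_sub (valHom hdim hm) (Additive.ofMul v) (Additive.ofMul w)
  have hconst : ∀ a : kˣ, valCls hdim m (fun _ => a) = 0 := fun a =>
    (valCls_eq_zero_iff hdim hm _).mpr ⟨a, fun _ _ => rfl⟩
  rcases m.support.eq_empty_or_nonempty with hS | ⟨s0, hs0⟩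
  · rw [hS, Finset.card_empty, Nat.zero_sub, pow_zero, Nat.card_eq_one_iff_unique]
    refine ⟨⟨fun a b => Subtype.ext ?_⟩, ⟨⟨0, by simp⟩⟩⟩
    obtain ⟨v, hv⟩ := exists_valCls_of_ker hdim hm a.2.2
    obtain ⟨w, hw⟩ := exists_valCls_of_ker hdim hm b.2.2
    rw [hv, hw, (valCls_eq_zero_iff hdim hm v).mpr ⟨1, by simp [hS]⟩,
      (valCls_eq_zero_iff hdim hm w).mpr ⟨1, by simp [hS]⟩]
  haveI : NeZero n := ⟨by omega⟩
  haveI : NeZero (n : k) := ⟨hnk⟩
  let F : ({x // x ∈ m.support.erase s0} → rootsOfUnity n k) → LocSym.Pt c → kˣ := fun w x =>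
    if hx : x ∈ m.support.erase s0 then (w ⟨x, hx⟩ : kˣ) else 1
  have hF : ∀ w, F w ^ n = fun _ => 1 := fun w => funext fun x => by
    simp only [F, Pi.pow_apply]
    split_ifs with hx
    · exact (mem_rootsOfUnity _ _).mp (w ⟨x, hx⟩).2
    · exact one_pow n
  let Ψ : ({x // x ∈ m.support.erase s0} → rootsOfUnity n k) →
      {x : PicMod c m // n • x = 0 ∧ picModToPic c m x = 0} := fun w =>
    ⟨valCls hdim m (F w), by rw [hpow, hF, hconst], picModToPic_valCls hdim _⟩
  have hΨ : Function.Bijective Ψ := by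
    constructor
    · intro w w' h
      have h' : valCls hdim m (F w / F w') = 0 := by
        rw [hdiv, sub_eq_zero]; exact congrArg Subtype.val h
      obtain ⟨a, ha⟩ := (valCls_eq_zero_iff hdim hm _).mp h'
      have h0 := ha s0 hs0
      simp [F] at h0
      funext x
      have h1 := ha x.1 (Finset.mem_of_mem_erase x.2)
      simp only [F, Pi.div_apply, dif_pos x.2, ← h0, div_eq_one] at h1
      exact Subtype.ext h1
    · rintro ⟨y, hy, hy'⟩
      obtain ⟨v, rfl⟩ := exists_valCls_of_ker hdim hm hy'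
      rw [hpow, valCls_eq_zero_iff hdim hm] at hy
      obtain ⟨a, ha⟩ := hy
      refine ⟨fun x => ⟨v x.1 / v s0, div_mem_rootsOfUnity (ha x.1 (Finset.mem_of_mem_erase x.2))
        (ha s0 hs0)⟩, Subtype.ext ?_⟩
      dsimp only [Ψ]
      rw [← sub_eq_zero, ← hdiv, valCls_eq_zero_iff hdim hm]
      refine ⟨(v s0)⁻¹, fun x hx => ?_⟩
      by_cases hxs : x = s0
      · subst hxs; simp [F]
      · simp [F, hxs, Finsupp.mem_support_iff.mp hx]
  rw [← Nat.card_congr (Equiv.ofBijective Ψ hΨ), Nat.card_fun, HasEnoughRootsOfUnity.natCard_rootsOfUnity,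
    Nat.card_eq_fintype_card, Fintype.card_coe, Finset.card_erase_of_mem hs0]

end Groth.Agent.LocSymB

end
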