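import Groth.Agent.Lib.LocSymB.Basic
import Groth.Agent.Lib.SmoothReg17.Basic
import Groth.Agent.Lib.FunField.Approx
import Mathlib.AlgebraicGeometry.Morphisms.Separated
import Mathlib.AlgebraicGeometry.Morphisms.Proper
import Mathlib.Topology.KrullDimension

/-! Rational points of a smooth curve as places of its function field; approximation. -/

universe u v

open CategoryTheory AlgebraicGeometry WithZero
open scoped Multiplicative

noncomputable section

namespace Groth.Agent.LocSymB

variable {k : Type u} [Field k] {X : Scheme.{u}} {c : X ⟶ Spec (CommRingCat.of k)}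

theorem isClosed_pt [IsSeparated c] (x : LocSym.Pt c) : IsClosed ({x.pt} : Set X) := by
  haveI : IsClosedImmersion (x.1 ≫ c) := by rw [x.2]; infer_instance
  haveI : IsClosedImmersion x.1 := IsClosedImmersion.of_comp x.1 c
  have h : Set.range x.1.base = {x.pt} := by
    ext y
    refine ⟨?_, fun h => ⟨_, h.symm⟩⟩
    rintro ⟨z, rfl⟩
    rw [Subsingleton.elim z (IsLocalRing.closedPoint k)]
    rfl
  exact h ▸ x.1.isClosedEmbedding.isClosed_range

variable [IsIntegral X]

theorem isDiscreteValuationRing_stalk [Smooth c] [IsSeparated c] (hdim : topologicalKrullDim X = 1) (x : LocSym.Pt c) :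
    IsDiscreteValuationRing (X.presheaf.stalk x.pt) := by
  haveI := SmoothReg17.isRegularLocalRing_stalk c x.pt
  haveI := SmoothReg17.isIntegrallyClosed_stalk c x.pt
  have hd : ringKrullDim (X.presheaf.stalk x.pt) ≤ 1 := by
    rw [← PrimeSpectrum.topologicalKrullDim_eq_ringKrullDim, ← hdim]
    exact (X.fromSpecStalk x.pt).isEmbedding.isInducing.topologicalKrullDim_le
  have hnf : ¬ IsField (X.presheaf.stalk x.pt) := by
    intro hf
    letI := hf.toField
    haveI : Unique (PrimeSpectrum (X.presheaf.stalk x.pt)) := inferInstance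
    obtain ⟨z, hz⟩ : genericPoint X ∈ Set.range (X.fromSpecStalk x.pt) := by
      rw [Scheme.range_fromSpecStalk]
      exact genericPoint_specializes x.pt
    have hx : genericPoint X = x.pt :=
      hz.symm.trans ((congrArg _ (Subsingleton.elim (α := PrimeSpectrum (X.presheaf.stalk x.pt)) z
        (IsLocalRing.closedPoint _))).trans Scheme.fromSpecStalk_closedPoint)
    have huniv : ({x.pt} : Set X) = Set.univ := by
      rw [← (isClosed_pt x).closure_eq, ← hx]
      exact genericPoint_spec X
    haveI : Subsingleton X := Set.subsingleton_univ_iff.mp (huniv ▸ Set.subsingleton_singleton)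
    have h0 : topologicalKrullDim X ≤ 0 := by
      haveI : Subsingleton (TopologicalSpace.IrreducibleCloseds X) := ⟨fun a b => TopologicalSpace.IrreducibleCloseds.ext (by
        rw [Subsingleton.eq_univ_of_nonempty a.isIrreducible.nonempty, Subsingleton.eq_univ_of_nonempty b.isIrreducible.nonempty])⟩
      exact Order.krullDim_nonpos_of_subsingleton
    rw [hdim] at h0
    exact absurd h0 (by decide)
  refine ((IsDiscreteValuationRing.TFAE _ hnf).out 0 2).mpr ?_
  haveI : Ring.KrullDimLE 1 (X.presheaf.stalk x.pt) := Ring.krullDimLE_iff.mpr hd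
  haveI : Ring.DimensionLEOne (X.presheaf.stalk x.pt) := ⟨fun h hp => (Ring.krullDimLE_one_iff_of_noZeroDivisors.mp ‹_›) _ h hp⟩
  exact { }

variable (c) in
/-- `k`-algebra structure on the function field -/
abbrev ffAlg : Algebra k X.functionField := (LocSym.constFun c).toAlgebra

/-- constants lie in each local ring -/
theorem constFun_mem (x : LocSym.Pt c) (a : k) :
    ∃ s : X.presheaf.stalk x.pt, algebraMap _ X.functionField s = LocSym.constFun c a := by
  refine ⟨X.presheaf.germ ⊤ x.pt trivial (c.appTop.hom ((Scheme.ΓSpecIso (CommRingCat.of k)).inv.hom a)), ?_⟩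
  haveI : Nonempty (⊤ : X.Opens) := ⟨⟨x.pt, trivial⟩⟩
  rw [Scheme.algebraMap_germ_eq_germToFunctionField (X := X) (x := x.pt) (U := ⊤) trivial]
  rfl

/-- valuation at a rational point -/
def valAt [Smooth c] [IsSeparated c] (hdim : topologicalKrullDim X = 1) (x : LocSym.Pt c) :
    Valuation X.functionField ℤᵐ⁰ :=
  haveI := isDiscreteValuationRing_stalk hdim x
  (IsDiscreteValuationRing.maximalIdeal (X.presheaf.stalk x.pt)).valuation X.functionField

/-- place at a rational point -/
def place [Smooth c] [IsSeparated c] (hdim : topologicalKrullDim X = 1) (x : LocSym.Pt c) :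
    letI := ffAlg c; FunFld.Place k X.functionField :=
  letI := ffAlg c
  haveI := isDiscreteValuationRing_stalk hdim x
  ⟨valAt hdim x, fun a => by
      obtain ⟨s, hs⟩ := constFun_mem x a
      change valAt hdim x (LocSym.constFun c a) ≤ 1
      rw [← hs]
      exact (IsDiscreteValuationRing.maximalIdeal _).valuation_le_one s,
    (IsDiscreteValuationRing.maximalIdeal (X.presheaf.stalk x.pt)).valuation_surjective X.functionField⟩

theorem ord_eq [Smooth c] [IsSeparated c] (hdim : topologicalKrullDim X = 1) (x : LocSym.Pt c) (g : X.functionField) :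
    x.ord g = -WithZero.log (valAt hdim x g) := by
  haveI := isDiscreteValuationRing_stalk hdim x
  have h : IsNoetherianRing (X.presheaf.stalk x.pt) ∧ Ring.KrullDimLE 1 (X.presheaf.stalk x.pt) ∧
      Nontrivial (X.presheaf.stalk x.pt) ∧ IsFractionRing (X.presheaf.stalk x.pt) X.functionField :=
    ⟨inferInstance, inferInstance, inferInstance, inferInstance⟩
  rw [LocSym.Pt.ord, CycAlg.ordFrac, dif_pos h, Ring.ordFrac_eq_valuation_inv, ← WithZero.log_inv]
  change _ = WithZero.log (valAt hdim x g)⁻¹
  rw [show (IsDiscreteValuationRing.maximalIdeal (X.presheaf.stalk x.pt)).valuation X.functionField g =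
    valAt hdim x g from rfl]
  rcases h0 : (valAt hdim x g)⁻¹ with _ | z <;> rfl

theorem place_injective [Smooth c] [IsSeparated c] (hdim : topologicalKrullDim X = 1) :
    Function.Injective (fun x : LocSym.Pt c => valAt hdim x) := by
  intro x y h
  apply pt_injective
  haveI := isDiscreteValuationRing_stalk hdim x
  haveI := isDiscreteValuationRing_stalk hdim y
  have h' : (valAt hdim x).valuationSubring = (valAt hdim y).valuationSubring :=
    congrArg Valuation.valuationSubring h
  have hr : ∀ (z : LocSym.Pt c) [IsDiscreteValuationRing (X.presheaf.stalk z.pt)] (a : X.functionField),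
      a ∈ (valAt hdim z).valuationSubring ↔ ∃ s : X.presheaf.stalk z.pt, algebraMap _ X.functionField s = a := by
    intro z _ a
    exact ⟨fun ha => IsDiscreteValuationRing.exists_lift_of_le_one ha, fun ⟨s, hs⟩ => hs ▸
      (IsDiscreteValuationRing.maximalIdeal _).valuation_le_one s⟩
  have hxy : ∀ s : X.presheaf.stalk x.pt, ∃ t : X.presheaf.stalk y.pt,
      algebraMap _ X.functionField t = algebraMap _ X.functionField s := fun s =>
    (hr y _).mp (h' ▸ (hr x _).mpr ⟨s, rfl⟩)
  choose φ hφ using hxy
  let φr : X.presheaf.stalk x.pt →+* X.presheaf.stalk y.pt :=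
    { toFun := φ
      map_one' := IsFractionRing.injective _ X.functionField (by rw [hφ, map_one, map_one])
      map_mul' := fun a b => IsFractionRing.injective _ X.functionField (by rw [map_mul, hφ, hφ, hφ, map_mul])
      map_zero' := IsFractionRing.injective _ X.functionField (by rw [hφ, map_zero, map_zero])
      map_add' := fun a b => IsFractionRing.injective _ X.functionField (by rw [map_add, hφ, hφ, hφ, map_add]) }
  have hbij : Function.Bijective φr := ⟨fun a b hab => IsFractionRing.injective _ X.functionField (by
      rw [← hφ, ← hφ]; exact congrArg _ hab), fun t => by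
      obtain ⟨s, hs⟩ := (hr x _).mp (h'.symm ▸ (hr y _).mpr ⟨t, rfl⟩)
      exact ⟨s, IsFractionRing.injective _ X.functionField ((hφ s).trans hs)⟩⟩
  haveI : IsIso (CommRingCat.ofHom φr) := (ConcreteCategory.isIso_iff_bijective _).mpr hbij
  let sx := X.presheaf.stalkSpecializes (genericPoint_specializes x.pt)
  let sy := X.presheaf.stalkSpecializes (genericPoint_specializes y.pt)
  have hs : CommRingCat.ofHom φr ≫ sy = sx := CommRingCat.hom_ext (RingHom.ext fun a => hφ a)
  let f := Spec.map (CommRingCat.ofHom φr) ≫ X.fromSpecStalk x.pt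
  have hdom : IsDominant (Spec.map sy) := by
    refine ⟨(PrimeSpectrum.denseRange_comap_iff_ker_le_nilRadical sy.hom).mpr ?_⟩
    rw [show RingHom.ker sy.hom = ⊥ from
      (RingHom.injective_iff_ker_eq_bot _).mp (IsFractionRing.injective (X.presheaf.stalk y.pt) X.functionField)]
    exact bot_le
  have hU : Spec.map sy ≫ f = Spec.map sy ≫ X.fromSpecStalk y.pt := by
    rw [← Category.assoc, ← Spec.map_comp, hs, Scheme.SpecMap_stalkSpecializes_fromSpecStalk,
      Scheme.SpecMap_stalkSpecializes_fromSpecStalk]
  have hover : f ≫ c = X.fromSpecStalk y.pt ≫ c := by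
    rw [← Spec.map_preimage (f ≫ c), ← Spec.map_preimage (X.fromSpecStalk y.pt ≫ c)]
    congr 1
    haveI : Mono sy := ConcreteCategory.mono_of_injective _ (IsFractionRing.injective (X.presheaf.stalk y.pt) X.functionField)
    rw [← cancel_mono sy]
    apply Spec.map_injective
    rw [Spec.map_comp, Spec.map_comp, Spec.map_preimage, Spec.map_preimage, ← Category.assoc, hU, Category.assoc]
  have he := congrArg (fun (g : Spec (X.presheaf.stalk y.pt) ⟶ X) => g.base (IsLocalRing.closedPoint (X.presheaf.stalk y.pt)))
    (ext_of_isDominant_of_isSeparated c hover (Spec.map sy) hU)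
  simp only [f, Scheme.Hom.comp_base, TopCat.comp_app] at he
  haveI : IsLocalHom φr := ⟨fun a ha => (isUnit_map_iff (RingEquiv.ofBijective φr hbij) a).mp ha⟩
  refine Eq.trans ?_ (he.trans Scheme.fromSpecStalk_closedPoint)
  refine (Scheme.fromSpecStalk_closedPoint (X := X) (x := x.pt)).symm.trans (congrArg _ ?_)
  exact (IsLocalRing.comap_closedPoint φr).symm

/-- weak approximation at finitely many rational points -/
theorem exists_approx [Smooth c] [IsSeparated c] (hdim : topologicalKrullDim X = 1) (S : Finset (LocSym.Pt c))
    (t : LocSym.Pt c → X.functionField) (N : LocSym.Pt c → ℤ) :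
    ∃ h : X.functionField, ∀ x ∈ S, valAt hdim x (h - t x) ≤ exp (-(N x)) := by
  classical
  letI := ffAlg c
  have hinj : Function.Injective (place (c := c) hdim) := fun x y h => place_injective hdim (congrArg Subtype.val h)
  obtain ⟨h, hh⟩ := FunField.weak_approx (S.image (place (c := c) hdim)) (Function.extend (place hdim) t 0)
    (Function.extend (place hdim) N 0)
  refine ⟨h, fun x hx => ?_⟩
  have := hh _ (Finset.mem_image_of_mem _ hx)
  rwa [hinj.extend_apply, hinj.extend_apply] at this

end Groth.Agent.LocSymB

end
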